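import Mathlib

/-!
# The theorem of Eakin and Nagata (Formanek's proof)
-/

universe u v

namespace H1Eakin

variable {B : Type u} [CommRing B]

/-- A module on which the lattice of extended submodules satisfies the ascending chain condition
modulo each `I`: we phrase it through a Noetherian algebra. -/
theorem isNoetherian_of_forall_faithful {M : Type v} [AddCommGroup M] [Module B M] [Module.Finite B M]
    (hM : ∀ r : B, r ≠ 0 → IsNoetherian B (M ⧸ LinearMap.range (LinearMap.lsmul B M r))) :
    IsNoetherian B M := by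
  classical
  obtain ⟨s, hs⟩ := Module.Finite.fg_top (R := B) (M := M)
  by_cases hf : Module.annihilator B M = ⊥
  swap
  · obtain ⟨r, hr, hr0⟩ := (Submodule.ne_bot_iff _).1 hf
    haveI := hM r hr0
    have hb : LinearMap.range (LinearMap.lsmul B M r) = ⊥ := by
      rw [LinearMap.range_eq_bot]
      exact LinearMap.ext fun m => Module.mem_annihilator.1 hr m
    exact isNoetherian_of_linearEquiv (Submodule.quotEquivOfEqBot _ hb)
  let F : Set (Submodule B M) := {N | ∀ r : B, (∀ m : M, r • m ∈ N) → r = 0}
  have hbot : ⊥ ∈ F := fun r hr => by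
    have : r ∈ Module.annihilator B M := Module.mem_annihilator.2 fun m => by simpa using hr m
    rwa [hf, Submodule.mem_bot] at this
  obtain ⟨N, -, hN⟩ := zorn_le_nonempty₀ F (fun c hc hchain N₀ hN₀ => by
    refine ⟨sSup c, fun r hr => ?_, fun x hx => le_sSup hx⟩
    have hdir : DirectedOn (· ≤ ·) c := hchain.directedOn
    have h : ∀ t : Finset M, ∃ N ∈ c, ∀ m ∈ t, r • m ∈ N := by
      intro t
      induction t using Finset.induction_on with
      | empty => exact ⟨N₀, hN₀, by simp⟩
      | @insert a t _ ih =>
        obtain ⟨N₁, hN₁, h1⟩ := ih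
        obtain ⟨N₂, hN₂, h2⟩ := (Submodule.mem_sSup_of_directed ⟨N₀, hN₀⟩ hdir).1 (hr a)
        obtain ⟨N₃, hN₃, h13, h23⟩ := hdir N₁ hN₁ N₂ hN₂
        refine ⟨N₃, hN₃, fun m hm => ?_⟩
        rcases Finset.mem_insert.1 hm with rfl | hm
        · exact h23 h2
        · exact h13 (h1 m hm)
    obtain ⟨N, hNc, hNs⟩ := h s
    refine hc hNc r fun m => ?_
    have : (⊤ : Submodule B M) ≤ N.comap (LinearMap.lsmul B M r) := by
      rw [← hs, Submodule.span_le]
      exact fun x hx => hNs x hx
    exact this (Submodule.mem_top : m ∈ _)) ⊥ hbot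
  have hNF : N ∈ F := hN.1
  have hquot : IsNoetherian B (M ⧸ N) := by
    refine ⟨fun P => ?_⟩
    by_cases hP : P = ⊥
    · subst hP; exact Submodule.fg_bot
    obtain ⟨r, hr0, hr⟩ : ∃ r : B, r ≠ 0 ∧ ∀ z : M ⧸ N, r • z ∈ P := by
      by_contra hc
      push Not at hc
      have hcm : P.comap N.mkQ ∈ F := fun r hr => by
        by_contra hr0
        obtain ⟨z, hz⟩ := hc r hr0
        obtain ⟨m, rfl⟩ := N.mkQ_surjective z
        exact hz (by rw [← map_smul]; exact hr m)
      have hle : N ≤ P.comap N.mkQ := fun x hx => by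
        rw [Submodule.mem_comap, Submodule.mkQ_apply, (Submodule.Quotient.mk_eq_zero N).2 hx]; exact zero_mem _
      have heq := le_antisymm (hN.2 hcm hle) hle
      apply hP
      rw [← Submodule.map_comap_eq_of_surjective N.mkQ_surjective P, heq, Submodule.mkQ_map_self]
    let R' : Submodule B (M ⧸ N) := LinearMap.range (LinearMap.lsmul B (M ⧸ N) r)
    have hR'P : R' ≤ P := by rintro _ ⟨z, rfl⟩; exact hr z
    haveI := hM r hr0
    let φ : (M ⧸ LinearMap.range (LinearMap.lsmul B M r)) →ₗ[B] (M ⧸ N) ⧸ R' :=
      Submodule.mapQ _ R' N.mkQ (by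
        rintro _ ⟨m, rfl⟩
        exact ⟨N.mkQ m, (map_smul N.mkQ r m).symm⟩)
    haveI : IsNoetherian B ((M ⧸ N) ⧸ R') := isNoetherian_of_surjective φ <| LinearMap.range_eq_top.2 fun z => by
      obtain ⟨z, rfl⟩ := R'.mkQ_surjective z
      obtain ⟨m, rfl⟩ := N.mkQ_surjective z
      exact ⟨Submodule.Quotient.mk m, rfl⟩
    refine Submodule.fg_of_fg_map_of_fg_inf_ker R'.mkQ (IsNoetherian.noetherian _) ?_
    rw [Submodule.ker_mkQ, inf_eq_right.2 hR'P]
    show (LinearMap.range (LinearMap.lsmul B (M ⧸ N) r)).FG
    rw [LinearMap.range_eq_map]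
    exact (Module.Finite.fg_top (R := B) (M := M ⧸ N)).map _
  have hB : IsNoetherianRing B := by
    let ψ : B →ₗ[B] (s → M ⧸ N) :=
      LinearMap.pi fun m => (LinearMap.toSpanSingleton B (M ⧸ N) (N.mkQ (m : M)))
    refine isNoetherian_of_injective ψ ?_
    rw [injective_iff_map_eq_zero]
    intro r hr
    refine hNF r fun m => ?_
    have : (⊤ : Submodule B M) ≤ N.comap (LinearMap.lsmul B M r) := by
      rw [← hs, Submodule.span_le]
      intro x hx
      have := congrFun hr ⟨x, hx⟩
      simpa [ψ, ← Submodule.Quotient.mk_smul, Submodule.Quotient.mk_eq_zero] using this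
    exact this (Submodule.mem_top : m ∈ _)
  exact isNoetherian_of_isNoetherianRing_of_finite B M

/-- Eakin–Nagata: a ring with a finite faithful Noetherian algebra is Noetherian. -/
theorem isNoetherianRing_of_finite_extension (A : Type v) [CommRing A] [Algebra B A] [Module.Finite B A]
    [FaithfulSMul B A] [IsNoetherianRing A] : IsNoetherianRing B := by
  classical
  have key : ∀ J : Ideal A, IsNoetherian B (A ⧸ J) := by
    intro J
    induction J using WellFoundedGT.induction with
    | _ J ih =>
      haveI : Module.Finite B (A ⧸ J) := Module.Finite.of_surjective (Ideal.Quotient.mkₐ B J).toLinearMap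
        Ideal.Quotient.mk_surjective
      let I : Ideal B := J.comap (algebraMap B A)
      haveI : IsScalarTower B (B ⧸ I) (A ⧸ J) := IsScalarTower.of_algebraMap_eq fun b => rfl
      haveI : Module.Finite (B ⧸ I) (A ⧸ J) := Module.Finite.of_restrictScalars_finite B _ _
      have := isNoetherian_of_forall_faithful (B := B ⧸ I) (M := A ⧸ J) (fun r hr => by
        obtain ⟨b, rfl⟩ := Ideal.Quotient.mk_surjective r
        have hb : algebraMap B A b ∉ J := fun h => hr (Ideal.Quotient.eq_zero_iff_mem.2 h)
        have hlt : J < J ⊔ Ideal.span {algebraMap B A b} := left_lt_sup.2 fun h =>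
          hb (h (Ideal.mem_span_singleton_self _))
        haveI := ih _ hlt
        let f : (A ⧸ (J ⊔ Ideal.span {algebraMap B A b})) →ₗ[B]
            (A ⧸ J) ⧸ LinearMap.range (LinearMap.lsmul (B ⧸ I) (A ⧸ J) (Ideal.Quotient.mk I b)) :=
          Submodule.liftQ ((J ⊔ Ideal.span {algebraMap B A b}).restrictScalars B)
            (((LinearMap.range (LinearMap.lsmul (B ⧸ I) (A ⧸ J) (Ideal.Quotient.mk I b))).mkQ.restrictScalars B).comp
              (Ideal.Quotient.mkₐ B J).toLinearMap) (fun z hz => by
              obtain ⟨j, hj, w, hw, rfl⟩ := Submodule.mem_sup.1 hz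
              obtain ⟨c, rfl⟩ := Ideal.mem_span_singleton'.1 hw
              rw [LinearMap.mem_ker, LinearMap.comp_apply, LinearMap.restrictScalars_apply, Submodule.mkQ_apply,
                Submodule.Quotient.mk_eq_zero]
              refine ⟨Ideal.Quotient.mk J c, ?_⟩
              show b • Ideal.Quotient.mk J c = Ideal.Quotient.mk J (j + c * algebraMap B A b)
              rw [map_add, Ideal.Quotient.eq_zero_iff_mem.2 hj, zero_add]
              show Ideal.Quotient.mk J (b • c) = _
              rw [Algebra.smul_def, mul_comm])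
        have hN : IsNoetherian B ((A ⧸ J) ⧸ LinearMap.range (LinearMap.lsmul (B ⧸ I) (A ⧸ J) (Ideal.Quotient.mk I b))) :=
          isNoetherian_of_surjective f <| LinearMap.range_eq_top.2 fun z => by
            obtain ⟨z, rfl⟩ := Submodule.mkQ_surjective _ z
            obtain ⟨a, rfl⟩ := Ideal.Quotient.mk_surjective z
            exact ⟨Submodule.Quotient.mk a, rfl⟩
        exact isNoetherian_of_tower B hN)
      refine ⟨fun P => ?_⟩
      let P' : Submodule (B ⧸ I) (A ⧸ J) :=
        { P with
          smul_mem' := fun c x hx => by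
            obtain ⟨b, rfl⟩ := Ideal.Quotient.mk_surjective c
            have e : Ideal.Quotient.mk I b • x = b • x := algebraMap_smul (B ⧸ I) b x
            rw [e]
            exact P.smul_mem b hx }
      haveI : Module.Finite B (B ⧸ I) := Module.Finite.of_surjective (Ideal.Quotient.mkₐ B I).toLinearMap
        Ideal.Quotient.mk_surjective
      haveI : Module.Finite (B ⧸ I) P' := Module.Finite.of_fg (IsNoetherian.noetherian P')
      haveI : Module.Finite B P' := Module.Finite.trans (B ⧸ I) P'
      exact (Module.Finite.iff_fg (N := P)).1 (inferInstanceAs (Module.Finite B P'))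
  haveI := key ⊥
  haveI hA : IsNoetherian B A := isNoetherian_of_linearEquiv (AlgEquiv.quotientBot B A).toLinearEquiv
  exact isNoetherian_of_injective (Algebra.linearMap B A) (FaithfulSMul.algebraMap_injective B A)

end H1Eakin
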