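import Mathlib

/-!
# Height-one primes of invariant rings of factorial domains
-/

universe u

namespace H1Eakin

open scoped Pointwise

variable {A B : Type u} [CommRing A] [CommRing B] [Algebra B A]

/-- The prefix products of a list. -/
def prefixes : List A → List A
  | [] => []
  | π :: l => 1 :: (prefixes l).map (π * ·)

theorem length_prefixes : ∀ l : List A, (prefixes l).length = l.length
  | [] => rfl
  | π :: l => by simp [prefixes, length_prefixes l]

/-- An element of the span of a list. -/
def lspan (l : List A) : Submodule B A := Submodule.span B {x | x ∈ l}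

theorem exists_reduce (q : Ideal B) [q.IsPrime] : ∀ (l : List A),
    (∀ π ∈ l, ∀ a : A, ∃ s : B, s ∉ q ∧ ∃ b : B, ∃ a' : A, algebraMap B A s * a = algebraMap B A b + π * a') →
    ∀ a : A, ∃ s : B, s ∉ q ∧ ∃ y ∈ lspan (B := B) (prefixes l), ∃ a'' : A,
      algebraMap B A s * a = y + l.prod * a'' := by
  intro l
  induction l with
  | nil =>
    intro _ a
    exact ⟨1, fun h => (inferInstance : q.IsPrime).ne_top ((Ideal.eq_top_iff_one q).2 h), 0, zero_mem _, a, by simp⟩
  | cons π l ih =>
    intro h a
    obtain ⟨s, hs, b, a', ha⟩ := h π List.mem_cons_self a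
    obtain ⟨s', hs', y, hy, a'', ha'⟩ := ih (fun x hx => h x (List.mem_cons_of_mem π hx)) a'
    refine ⟨s' * s, fun hm => ((inferInstance : q.IsPrime).mem_or_mem hm).elim hs' hs,
      algebraMap B A (s' * b) + π * y, add_mem ?_ ?_, a'', ?_⟩
    · rw [Algebra.algebraMap_eq_smul_one]
      exact Submodule.smul_mem _ _ (Submodule.subset_span (List.mem_cons_self))
    · have hle : (lspan (B := B) (prefixes l)).map (LinearMap.mulLeft B π) ≤ lspan (B := B) (prefixes (π :: l)) := by
        rw [lspan, Submodule.map_span]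
        refine Submodule.span_mono ?_
        rintro _ ⟨z, hz, rfl⟩
        exact List.mem_cons_of_mem _ (List.mem_map.2 ⟨z, hz, rfl⟩)
      exact hle ⟨y, hy, rfl⟩
    · rw [List.prod_cons, map_mul, map_mul, mul_assoc, ha, mul_add,
        show algebraMap B A s' * (π * a') = π * (algebraMap B A s' * a') by ring, ha']
      ring

variable [IsDomain A] [FaithfulSMul B A] [Module.Finite B A]
variable {G : Type u} [Group G] [Fintype G] [MulSemiringAction G A] [FaithfulSMul G A] [SMulCommClass G B A]

/-- If a finite extension is generated up to `q` by `m` elements, then the order of the group is at most `m`. -/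
theorem card_le (q : Ideal B) [q.IsPrime] (Y : List A)
    (h : ∀ a : A, ∃ s : B, s ∉ q ∧ ∃ y ∈ lspan (B := B) Y, ∃ z ∈ q • (⊤ : Submodule B A),
      algebraMap B A s * a = y + z) : Fintype.card G ≤ Y.length := by
  classical
  obtain ⟨t, ht⟩ := Module.Finite.fg_top (R := B) (M := A)
  choose s hs y hy z hz hsyz using h
  let s₀ : B := ∏ a ∈ t, s a
  have hs₀ : s₀ ∉ q := fun hm => by
    obtain ⟨a, -, ha⟩ := (Ideal.IsPrime.prod_mem_iff).1 hm
    exact hs a ha
  let N := A ⧸ lspan (B := B) Y
  have htop : (⊤ : Submodule B A) ≤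
      (lspan (B := B) Y ⊔ q • (⊤ : Submodule B A)).comap (LinearMap.lsmul B A s₀) := by
    refine ht.ge.trans (Submodule.span_le.2 ?_)
    intro a ha
    rw [SetLike.mem_coe, Submodule.mem_comap, LinearMap.lsmul_apply,
      show s₀ = (∏ b ∈ t.erase a, s b) * s a from (Finset.prod_erase_mul t s ha).symm, mul_smul,
      Algebra.smul_def (s a), hsyz a]
    exact Submodule.smul_mem _ _ (Submodule.add_mem_sup (hy a) (hz a))
  let f : N →ₗ[B] N := LinearMap.lsmul B N s₀
  have hf : LinearMap.range f ≤ q • (⊤ : Submodule B N) := by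
    rintro _ ⟨n, rfl⟩
    obtain ⟨a, rfl⟩ := Submodule.mkQ_surjective _ n
    have := Submodule.mem_map_of_mem (f := (lspan (B := B) Y).mkQ) (Submodule.mem_comap.1 (htop (Submodule.mem_top : a ∈ _)))
    rw [Submodule.map_sup, Submodule.mkQ_map_self, bot_sup_eq, Submodule.map_smul'', Submodule.map_top,
      Submodule.range_mkQ] at this
    exact this
  obtain ⟨P, hP, -, hcoeff, hev⟩ := LinearMap.exists_monic_and_natDegree_eq_and_coeff_mem_pow_and_aeval_eq_zero B f q hf
  let r : B := P.eval s₀
  have hr : r ∉ q := fun hr => by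
    have h1 : r - s₀ ^ P.natDegree ∈ q := by
      have e : r = (Finset.sum (Finset.range P.natDegree) fun i => P.coeff i * s₀ ^ i) + s₀ ^ P.natDegree := by
        show P.eval s₀ = _
        rw [Polynomial.eval_eq_sum_range, Finset.sum_range_succ, hP.coeff_natDegree, one_mul]
      rw [e, add_sub_cancel_right]
      refine Ideal.sum_mem _ fun i hi => Ideal.mul_mem_right _ _ ?_
      have := hcoeff i
      exact Ideal.pow_le_self (Nat.sub_pos_of_lt (Finset.mem_range.1 hi)).ne' this
    exact hs₀ ((inferInstance : q.IsPrime).mem_of_pow_mem _ ((Submodule.sub_mem_iff_right q hr).1 h1))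
  have hr0 : algebraMap B A r ≠ 0 := fun h0 => hr (by
    rw [(FaithfulSMul.algebraMap_injective B A) (h0.trans (map_zero _).symm)]; exact zero_mem _)
  have hrA : ∀ a : A, r • a ∈ lspan (B := B) Y := fun a => by
    have h2 : Polynomial.aeval f P ((lspan (B := B) Y).mkQ a) = 0 := by rw [hev]; rfl
    have h3 : f = algebraMap B (Module.End B N) s₀ := by ext; rfl
    rw [h3, Polynomial.aeval_algebraMap_apply] at h2
    rw [← Submodule.Quotient.mk_eq_zero]
    exact h2
  let v : G → (Fin Y.length → A) := fun g i => g • Y.get i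
  have hv : LinearIndependent A v := by
    rw [Fintype.linearIndependent_iff]
    intro c hc g₀
    let φ : G → (A →* A) := fun g => (MulSemiringAction.toRingHom G A g).toMonoidHom
    have hφ : Function.Injective φ := fun g g' hgg => eq_of_smul_eq_smul fun a : A => DFunLike.congr_fun hgg a
    have hli := (linearIndependent_monoidHom A A).comp φ hφ
    refine (Fintype.linearIndependent_iff.1 hli) c ?_ g₀
    funext a
    have hzero : ∀ w ∈ lspan (B := B) Y, ∑ g, c g * g • w = 0 := by
      intro w hw
      induction hw using Submodule.span_induction with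
      | mem x hx =>
        obtain ⟨i, rfl⟩ := List.get_of_mem hx
        simpa [v] using congrFun hc i
      | zero => simp
      | add x y _ _ hx hy => simp [smul_add, mul_add, Finset.sum_add_distrib, hx, hy]
      | smul b x _ hx =>
        simp only [smul_comm _ b, mul_smul_comm, ← Finset.smul_sum, hx, smul_zero]
    have h4 := hzero _ (hrA a)
    simp only [smul_comm _ r, mul_smul_comm, ← Finset.smul_sum] at h4
    rw [Algebra.smul_def, mul_eq_zero] at h4
    simpa [φ, MulSemiringAction.toRingHom_apply] using h4.resolve_left hr0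
  simpa using hv.fintype_card_le_finrank

variable [Algebra.IsInvariant B A G] [IsNoetherianRing A] [UniqueFactorizationMonoid A]

omit [IsDomain A] [Algebra.IsInvariant B A G] [IsNoetherianRing A] [UniqueFactorizationMonoid A] [Fintype G] [FaithfulSMul G A] [FaithfulSMul B A] [Module.Finite B A] in
theorem smul_algebraMap_eq (g : G) (b : B) : g • algebraMap B A b = algebraMap B A b := by
  rw [Algebra.algebraMap_eq_smul_one, smul_comm, smul_one]

variable (G) in
include G in
theorem isPrincipal (q : Ideal B) [q.IsPrime] (hq : q.height = 1) (p : Ideal A) [p.IsPrime] [hpq : p.LiesOver q]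
    (hres : ∀ a : A, ∃ b c : B, c ∉ q ∧ algebraMap B A c * a - algebraMap B A b ∈ p) :
    Submodule.IsPrincipal q := by
  classical
  haveI : Algebra.IsIntegral B A := Algebra.IsIntegral.of_finite B A
  haveI : IsDomain B := (FaithfulSMul.algebraMap_injective B A).isDomain
  have hinj := FaithfulSMul.algebraMap_injective B A
  have hqbot : q ≠ ⊥ := fun h0 => by
    subst h0
    rw [Ideal.height_bot] at hq
    exact zero_ne_one hq
  have hover : p.comap (algebraMap B A) = q := hpq.over.symm
  have hp0 : p ≠ ⊥ := fun h0 => hqbot (by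
    rw [← hover, h0, Ideal.comap_bot_of_injective _ hinj])
  obtain ⟨π, hπp, hπ⟩ := Ideal.IsPrime.exists_mem_prime_of_ne_bot (inferInstance : p.IsPrime) hp0
  haveI : (Ideal.span {π}).IsPrime := (Ideal.span_singleton_prime hπ.ne_zero).2 hπ
  have hpspan : p = Ideal.span {π} := by
    by_contra hne
    have hlt : Ideal.span {π} < p := lt_of_le_of_ne ((Ideal.span_singleton_le_iff_mem p).2 hπp) (Ne.symm hne)
    have h1 : (Ideal.span {π}).comap (algebraMap B A) < p.comap (algebraMap B A) :=
      Ideal.IsIntegral.comap_lt_comap hlt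
    have h2 : (Ideal.span {π}).comap (algebraMap B A) ≠ ⊥ :=
      Ideal.IsIntegral.comap_ne_bot B (fun h0 => hπ.ne_zero (Ideal.span_singleton_eq_bot.1 h0))
    rw [hover] at h1
    haveI : q.FiniteHeight := ⟨Or.inr (by rw [hq]; exact ENat.one_ne_top)⟩
    have h3 := Ideal.height_strict_mono_of_isPrime_of_isPrime h1
    rw [hq, ENat.lt_one_iff_eq_zero, Ideal.height_eq_zero_iff_eq_bot] at h3
    exact h2 h3
  -- the orbit
  let O : Finset (Ideal A) := Finset.univ.image fun g : G => g • p
  have hrep : ∀ I : Ideal A, ∃ g : G, I ∈ O → g • p = I := fun I => by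
    by_cases hI : I ∈ O
    · obtain ⟨g, -, hg⟩ := Finset.mem_image.1 hI
      exact ⟨g, fun _ => hg⟩
    · exact ⟨1, fun h => absurd h hI⟩
  choose rep hrep using hrep
  let gen : Ideal A → A := fun I => rep I • π
  have hsmul : ∀ g : G, g • p = Ideal.span {g • π} := fun g => by
    rw [hpspan, Ideal.pointwise_smul_def, Ideal.map_span, Set.image_singleton]
    rfl
  have hgen : ∀ I ∈ O, I = Ideal.span {gen I} := fun I hI => by
    rw [← hsmul, hrep I hI]
  have hgenp : ∀ g : G, Prime (g • π) := fun g =>
    (MulEquiv.prime_iff (MulSemiringAction.toRingEquiv G A g).toMulEquiv).2 hπ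
  let D := MulAction.stabilizer G p
  let n := Fintype.card D
  have hcard : O.card * n = Fintype.card G := by
    haveI : Fintype (MulAction.orbit G p) := (Set.finite_range fun g : G => g • p).fintype
    rw [← MulAction.card_orbit_mul_card_stabilizer_eq_card_group G p]
    congr 1
    rw [← Fintype.card_coe O]
    refine Fintype.card_congr (Equiv.subtypeEquivRight fun I => ?_)
    simp [O, MulAction.mem_orbit_iff]
  have hgq : ∀ g : G, ∀ x ∈ q, ∀ k : ℕ, π ^ k ∣ algebraMap B A x → (g • π) ^ k ∣ algebraMap B A x := by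
    rintro g x - k ⟨a, ha⟩
    refine ⟨g • a, ?_⟩
    rw [← smul_pow', ← smul_mul', ← ha, smul_algebraMap_eq]
  -- the multiplicity
  have hdiv : ∀ x ∈ q, π ^ n ∣ algebraMap B A x := by
    by_contra hc
    push Not at hc
    obtain ⟨x₀, hx₀, hx₀n⟩ := hc
    let Pk : ℕ → Prop := fun k => ∃ x ∈ q, ¬ π ^ (k + 1) ∣ algebraMap B A x
    have hn : 0 < n := Fintype.card_pos
    have hex : ∃ k, Pk k := ⟨n - 1, x₀, hx₀, by rwa [show n - 1 + 1 = n by omega]⟩
    let e := Nat.find hex
    have he : e < n := lt_of_le_of_lt (Nat.find_min' hex ⟨x₀, hx₀, by rwa [show n - 1 + 1 = n by omega]⟩)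
      (Nat.sub_lt hn one_pos)
    obtain ⟨t, htq, ht⟩ := Nat.find_spec hex
    have hall : ∀ x ∈ q, π ^ e ∣ algebraMap B A x := fun x hx => by
      rcases Nat.eq_zero_or_pos e with h0 | h0
      · rw [h0, pow_zero]; exact one_dvd _
      · by_contra hnd
        exact Nat.find_min hex (Nat.sub_lt h0 one_pos) ⟨x, hx, by rwa [show Nat.find hex - 1 + 1 = e from Nat.sub_add_cancel h0]⟩
    let l : List A := O.toList.flatMap fun I => List.replicate e (gen I)
    have hlen : l.length = O.card * e := by
      simp [l, List.length_flatMap]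
    have hprod : l.prod = ∏ I ∈ O, gen I ^ e := by
      simp [l, List.flatMap, List.prod_flatten, List.map_map, Function.comp_def, ← Finset.prod_map_toList]
    have hdvd : ∏ I ∈ O, gen I ^ e ∣ algebraMap B A t := by
      refine Finset.prod_dvd_of_isRelPrime ?_ fun I _ => hgq _ t htq e (hall t htq)
      intro I hI J hJ hne
      refine IsRelPrime.pow (((hgenp (rep I)).irreducible.isRelPrime_iff_not_dvd).2 fun hd => hne ?_)
      rw [hgen I hI, hgen J hJ, Ideal.span_singleton_eq_span_singleton]
      exact (hgenp _).associated_of_dvd (hgenp _) hd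
    obtain ⟨w, hw⟩ := hdvd
    have hwO : ∀ I ∈ O, w ∉ I := by
      intro I hI hwI
      rw [hgen I hI, Ideal.mem_span_singleton] at hwI
      obtain ⟨w', hw'⟩ := hwI
      obtain ⟨c, hc⟩ := Finset.dvd_prod_of_mem (fun J => gen J ^ e) hI
      have h1 : gen I ^ (e + 1) ∣ algebraMap B A t := ⟨c * w', by rw [hw, hc, hw', pow_succ]; ring⟩
      have h2 := hgq (rep I)⁻¹
      obtain ⟨a, ha⟩ := h1
      refine ht ⟨(rep I)⁻¹ • a, ?_⟩
      calc algebraMap B A t = (rep I)⁻¹ • algebraMap B A t := (smul_algebraMap_eq _ _).symm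
        _ = _ := by rw [ha, smul_mul', smul_pow', inv_smul_smul]
    obtain ⟨s', hs', hws'⟩ : ∃ s', s' ∉ q ∧ w ∣ algebraMap B A s' := by
      by_contra hc
      push Not at hc
      have hle : (Ideal.span {w}).comap (algebraMap B A) ≤ q := fun b hb => by
        by_contra hbq
        exact hc b hbq (Ideal.mem_span_singleton.1 hb)
      obtain ⟨Q, hwQ, hQ, hQq⟩ := Ideal.exists_ideal_over_prime_of_isIntegral q (Ideal.span {w}) hle
      haveI := hQ
      obtain ⟨g, hg⟩ := Algebra.IsInvariant.exists_smul_of_under_eq B A G p Q (hover.trans hQq.symm)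
      exact hwO Q (Finset.mem_image.2 ⟨g, Finset.mem_univ g, hg.symm⟩) (hwQ (Ideal.mem_span_singleton_self w))
    have hlist : ∀ π' ∈ l, ∀ a : A, ∃ s : B, s ∉ q ∧ ∃ b : B, ∃ a' : A,
        algebraMap B A s * a = algebraMap B A b + π' * a' := by
      intro π' hπ' a
      obtain ⟨I, hI, hr⟩ := List.mem_flatMap.1 hπ'
      obtain rfl : π' = gen I := List.eq_of_mem_replicate hr
      obtain ⟨b, c, hc, hbc⟩ := hres ((rep I)⁻¹ • a)
      rw [hpspan, Ideal.mem_span_singleton'] at hbc
      obtain ⟨d, hd⟩ := hbc
      refine ⟨c, hc, b, rep I • d, ?_⟩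
      have := congrArg (rep I • ·) hd
      simp only [smul_mul', smul_sub, smul_algebraMap_eq, smul_inv_smul] at this
      rw [mul_comm (gen I), this]; ring
    have hbound := card_le (G := G) q (prefixes l) (fun a => by
      obtain ⟨s, hs, y, hy, a'', ha⟩ := exists_reduce q l hlist a
      obtain ⟨u', hu'⟩ := hws'
      refine ⟨s' * s, fun hm => ((inferInstance : q.IsPrime).mem_or_mem hm).elim hs' hs,
        algebraMap B A s' * y, ?_, algebraMap B A t * (u' * a''), ?_, ?_⟩
      · rw [← Algebra.smul_def]; exact Submodule.smul_mem _ _ hy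
      · rw [← Algebra.smul_def]; exact Submodule.smul_mem_smul htq Submodule.mem_top
      · rw [map_mul, mul_assoc, ha, hprod, hw, hu']; ring)
    rw [length_prefixes, hlen, ← hcard] at hbound
    exact absurd (Nat.le_of_mul_le_mul_left hbound (Finset.card_pos.2 ⟨p, Finset.mem_image.2 ⟨1, Finset.mem_univ _, one_smul G p⟩⟩))
      (not_le.2 he)
  -- the norm
  obtain ⟨b, hb⟩ := Algebra.IsInvariant.isInvariant (A := B) (∏ g : G, g • π) (fun h => by
    refine (map_prod (MulSemiringAction.toRingHom G A h) (fun g => g • π) Finset.univ).trans ?_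
    simp only [MulSemiringAction.toRingHom_apply, ← mul_smul]
    exact Fintype.prod_equiv (Equiv.mulLeft h) _ _ fun g => rfl)
  have hassoc : Associated (∏ I ∈ O, gen I ^ n) (algebraMap B A b) := by
    rw [hb, ← Finset.prod_fiberwise_of_maps_to (g := fun g : G => g • p) (t := O)
      (fun g _ => Finset.mem_image.2 ⟨g, Finset.mem_univ g, rfl⟩)]
    refine Associated.prod O _ _ fun I hI => ?_
    have hc : (Finset.univ.filter fun g : G => g • p = I).card = n := by
      show _ = Fintype.card D
      rw [← Fintype.card_subtype]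
      refine Fintype.card_congr ((Equiv.mulLeft (rep I)⁻¹).subtypeEquiv fun g => ?_)
      rw [MulAction.mem_stabilizer_iff, Equiv.coe_mulLeft, mul_smul, inv_smul_eq_iff, hrep I hI]
    rw [← hc, ← Finset.prod_const]
    refine Associated.prod _ _ _ fun g hg => ?_
    rw [← Ideal.span_singleton_eq_span_singleton, ← hgen I hI, ← hsmul, (Finset.mem_filter.1 hg).2]
  have hbq : b ∈ q := by
    rw [← hover, Ideal.mem_comap, hb]
    refine Ideal.mem_of_dvd _ (Finset.dvd_prod_of_mem _ (Finset.mem_univ (1 : G))) ?_
    rwa [one_smul]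
  have hb0 : algebraMap B A b ≠ 0 := by
    rw [hb]; exact Finset.prod_ne_zero_iff.2 fun g _ => (hgenp g).ne_zero
  refine ⟨⟨b, le_antisymm (fun x hx => ?_) ((Ideal.span_singleton_le_iff_mem q).2 hbq)⟩⟩
  have hQ : ∏ I ∈ O, gen I ^ n ∣ algebraMap B A x := by
    refine Finset.prod_dvd_of_isRelPrime ?_ fun I _ => hgq _ x hx n (hdiv x hx)
    intro I hI J hJ hne
    refine IsRelPrime.pow (((hgenp (rep I)).irreducible.isRelPrime_iff_not_dvd).2 fun hd => hne ?_)
    rw [hgen I hI, hgen J hJ, Ideal.span_singleton_eq_span_singleton]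
    exact (hgenp _).associated_of_dvd (hgenp _) hd
  obtain ⟨a, ha⟩ := hassoc.symm.dvd.trans hQ
  obtain ⟨a₀, rfl⟩ := Algebra.IsInvariant.isInvariant (A := B) (G := G) a (fun g => by
    refine mul_left_cancel₀ hb0 ?_
    rw [← ha]
    conv_lhs => rw [← smul_algebraMap_eq g b, ← smul_mul', ← ha, smul_algebraMap_eq])
  rw [← map_mul] at ha
  rw [hinj ha]
  exact Submodule.mem_span_singleton.2 ⟨a₀, by rw [smul_eq_mul, mul_comm]⟩

end H1Eakin
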